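import Groth.Agent.L03.LWU.Bridge.GenericPoint
import Groth.Agent.L03.LWU.Cone.Main
import Groth.Agent.L03.LangWeil.GeomComp
import Groth.Agent.L03.LangWeil.GeomTop
import Mathlib.AlgebraicGeometry.Geometrically.Irreducible

/-!
# Geometric components and constants
-/

set_option autoImplicit false
set_option linter.style.haveILetI false
set_option linter.unusedSectionVars false
set_option backward.isDefEq.respectTransparency false
set_option backward.isDefEq.respectTransparency.types false

universe u

open CategoryTheory CategoryTheory.Limits AlgebraicGeometry MvPolynomial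
open Groth.L03.LangWeil (sectAlg sectAlg_spec)
open scoped TensorProduct

noncomputable section

namespace Groth.L03.LWU.Bridge

variable {k : Type u} [Field k] {n : ℕ} {Y : Scheme.{u}} (ι : Y ⟶ CohB1.ProjSpace n k)
  [IsClosedImmersion ι] [IsIntegral Y]

theorem exists_coord_notMem : ∃ j, (X j : MvPolynomial (Fin (n + 1)) k) ∉ genIdeal ι := by
  obtain ⟨j, hj⟩ := Groth.L16.ProjSpace.exists_mem_basicOpen_X n k (ι (genericPoint Y))
  exact ⟨j, (Proj.mem_basicOpen _ _ _).1 hj⟩

theorem card_irreducibleComponents_subtype_univ {α : Type u} [TopologicalSpace α] (s : Set α) (hs : s = Set.univ) :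
    Nat.card (irreducibleComponents s) = Nat.card (irreducibleComponents α) := by
  subst hs
  let e := Homeomorph.Set.univ α
  exact (Nat.card_congr (irreducibleComponentsEquivOfIsPreirreducibleFiber e e.continuous e.isOpenMap
    (fun x => (Set.subsingleton_singleton.preimage e.injective).isPreirreducible) e.surjective).toEquiv).symm

/-- The number of geometric components is the degree of the field of constants of the cone. -/
theorem card_components_eq_constDeg [Finite k] {r : ℕ} (hr : topologicalKrullDim Y = r) {d : ℝ}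
    (hd : HasDeg k (coord ι) r d) :
    Nat.card (irreducibleComponents ↑(pullback (ι ≫ CohB1.ProjSpace.toSpec n k)
      (Spec.map (CommRingCat.ofHom (algebraMap k (AlgebraicClosure k)))))) = constDeg k (ConeField ι) := by
  classical
  set f := ι ≫ CohB1.ProjSpace.toSpec n k with hf
  have hx := isCone_coord ι hr
  obtain ⟨j, hj⟩ := exists_coord_notMem ι
  have hU := (isAffineOpen_stdOpen (k := k) j).preimage ι
  letI := sectAlg f hU
  obtain ⟨hξ, ψ, hψker, hψ⟩ := exists_generic_lift ι j hj
  obtain ⟨hinc, hfib⟩ := Groth.L03.LangWeil.fibre_algClosure f hU hξ (sectAlg_spec f hU)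
  have h1 := Groth.L03.LangWeil.card_components_preimage f hinc
  rw [card_irreducibleComponents_subtype_univ _ (by rw [genericPoint_closure, Set.preimage_univ])] at h1
  rw [h1, hfib]
  set P := (hU.primeIdealOf ⟨genericPoint Y, hξ⟩).asIdeal with hP
  haveI : P.IsPrime := (hU.primeIdealOf ⟨genericPoint Y, hξ⟩).2
  have hunit : P.primeCompl ≤ (IsUnit.submonoid (ConeField ι)).comap ψ := fun s hs => by
    refine Ne.isUnit fun h => hs ?_
    rw [← hψker]
    exact RingHom.mem_ker.2 h
  let φ := Ideal.ResidueField.liftₐ P ψ (by rw [← hψker]) hunit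
  have hφ : Function.Injective φ := φ.toRingHom.injective
  have hmem : ∀ a, a ∈ algebraicClosure k P.ResidueField → φ a ∈ algebraicClosure k (ConeField ι) := fun a ha =>
    mem_algebraicClosure_iff'.2 ((mem_algebraicClosure_iff'.1 ha).map φ)
  let Φ : algebraicClosure k P.ResidueField →ₗ[k] algebraicClosure k (ConeField ι) :=
    { toFun := fun a => ⟨φ a, hmem a a.2⟩
      map_add' := fun a b => Subtype.ext (map_add φ (a : P.ResidueField) b)
      map_smul' := fun c a => Subtype.ext (map_smul φ c (a : P.ResidueField)) }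
  have hΦ : Function.Bijective Φ := by
    refine ⟨fun a b h => Subtype.ext (hφ (congrArg Subtype.val h)), fun α => ?_⟩
    obtain ⟨D, a, b, ha, hb, hb0, hab⟩ :=
      hx.exists_ratio (mem_algebraicClosure_iff'.1 α.2).isAlgebraic
    obtain ⟨A, hA, rfl⟩ := mem_piece.mp ha
    obtain ⟨B, hB, rfl⟩ := mem_piece.mp hb
    let sec : CohB1.polyGrading n k D → P.ResidueField := fun p =>
      algebraMap _ P.ResidueField (ι.app _ (Groth.L02.Quot.Mono.rat n k p
        (⟨X j, isHomogeneous_X k j⟩ : CohB1.polyGrading n k 1)))
    have hsec : ∀ p, φ (sec p) * coord ι j ^ D = aeval (coord ι) p.1 := fun p => by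
      show φ (algebraMap _ P.ResidueField _) * _ = _
      rw [Ideal.ResidueField.liftₐ_algebraMap]
      exact hψ D p
    have hxj : coord ι j ^ D ≠ 0 := pow_ne_zero _ fun h => hj ((aeval_coord_eq_zero_iff ι _).1 (by rw [aeval_X]; exact h))
    have hval : φ (sec ⟨A, hA⟩ / sec ⟨B, hB⟩) = (α : ConeField ι) := by
      rw [map_div₀]
      have hb' : φ (sec ⟨B, hB⟩) ≠ 0 := fun h => hb0 (by rw [← hsec ⟨B, hB⟩, h, zero_mul])
      rw [div_eq_iff hb']
      refine mul_right_cancel₀ hxj ?_
      rw [hsec, mul_assoc, hsec]
      exact hab.symm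
    refine ⟨⟨sec ⟨A, hA⟩ / sec ⟨B, hB⟩, mem_algebraicClosure_iff'.2 ((isIntegral_algHom_iff φ hφ).1 ?_)⟩,
      Subtype.ext hval⟩
    rw [hval]
    exact mem_algebraicClosure_iff'.1 α.2
  let e := LinearEquiv.ofBijective Φ hΦ
  haveI := hx.finite_constants hd
  haveI : FiniteDimensional k (algebraicClosure k P.ResidueField) := Module.Finite.equiv e.symm
  haveI : Finite k := inferInstance
  rw [Groth.L03.LangWeil.card_primeSpectrum_tensor, constDeg]
  exact e.finrank_eq

/-- A geometrically irreducible variety has no new constants. -/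
theorem constDeg_eq_one [Finite k] {r : ℕ} (hr : topologicalKrullDim Y = r) {d : ℝ}
    (hd : HasDeg k (coord ι) r d) [GeometricallyIrreducible (ι ≫ CohB1.ProjSpace.toSpec n k)] :
    constDeg k (ConeField ι) = 1 := by
  rw [← card_components_eq_constDeg ι hr hd]
  haveI : IrreducibleSpace ↑(pullback (ι ≫ CohB1.ProjSpace.toSpec n k)
      (Spec.map (CommRingCat.ofHom (algebraMap k (AlgebraicClosure k))))) :=
    GeometricallyIrreducible.geometrically_irreducibleSpace _ _ _ (.of_hasPullback _ _)
  rw [irreducibleComponents_eq_singleton]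
  simp

theorem localConst_of_constDeg_eq_one [Finite k] {r : ℕ} (hr : topologicalKrullDim Y = r) {d : ℝ}
    (hd : HasDeg k (coord ι) r d) (h : constDeg k (ConeField ι) = 1) {k' : Type u} [Field k'] [Algebra k k']
    (v : Fin (n + 1) → k') : LocalConst k (coord ι) v := by
  intro α hα
  haveI := (isCone_coord ι hr).finite_constants hd
  have hbot : algebraicClosure k (ConeField ι) = ⊥ := IntermediateField.finrank_eq_one_iff.1 h
  have hmem : α ∈ algebraicClosure k (ConeField ι) := mem_algebraicClosure_iff'.2 hα.isIntegral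
  rw [hbot, IntermediateField.mem_bot] at hmem
  obtain ⟨c, rfl⟩ := hmem
  exact ⟨0, C c, 1, isHomogeneous_C _ _, isHomogeneous_one _ _, by simp, by simp⟩

end Groth.L03.LWU.Bridge
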