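import Groth.Agent.L03.LWU.Bridge.Restrict
import Groth.Agent.L03.LWU.Cone.Degree
import Groth.Agent.L22.VeryAmple.Over
import Groth.Agent.L22.Reg.Lin
import Groth.Agent.L18.AmplePull
import Groth.Agent.L16.AffineBC.Pullback
import Groth.Agent.L16.Existence.AmpleVanish
import Groth.Agent.S11753

/-!
# The degree of the cone is the top self-intersection of the hyperplane class
-/

set_option autoImplicit false
set_option linter.style.haveILetI false
set_option linter.unusedSectionVars false
set_option backward.isDefEq.respectTransparency false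
set_option backward.isDefEq.respectTransparency.types false

universe u

open CategoryTheory CategoryTheory.Limits AlgebraicGeometry TopologicalSpace Opposite MvPolynomial Filter
open Groth.L18.Frame (pull)
open Groth.L16.HomSh (h0Equiv h0Equiv_map)
open Groth.L00.Tensor (tensorIso tensorUnitRight tensorUnitLeft)
open scoped Topology

noncomputable section

namespace Groth.L03.LWU.Bridge

variable {k : Type u} [Field k] {n : ℕ} {Y : Scheme.{u}} (ι : Y ⟶ CohB1.ProjSpace n k)
  [IsClosedImmersion ι] [IsIntegral Y] [Y.Over (Spec (CommRingCat.of k))]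

/-- The dimension of the sections of a large twist is the Hilbert function of the cone. -/
theorem exists_finrank_h0 (hι : ι ≫ CohB1.ProjSpace.toSpec n k = Y ↘ Spec (CommRingCat.of k)) :
    ∃ d₀ : ℕ, ∀ D : ℕ, d₀ ≤ D →
      Module.finrank k (Coh.HH Y ((Scheme.Modules.pullback ι).obj (Twist.twistProjSpace n k (D : ℤ))) 0) =
        coneDim k (coord ι) D := by
  classical
  haveI : IsProper (CohB1.ProjSpace.toSpec n k) := Groth.L16.ProjSpace.isProper_toSpec n k
  haveI := Groth.L22.Reg.isProper_over_proj (k := k) (n := n)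
  haveI : (CohB1.ProjSpace n k).IsSeparated :=
    ⟨by rw [← terminal.comp_from (CohB1.ProjSpace.toSpec n k)]; infer_instance⟩
  obtain ⟨d₀, hd₀⟩ := exists_surjective_restrict ι
  refine ⟨d₀, fun D hD => ?_⟩
  let P := CohB1.ProjSpace n k
  let O := Twist.twistProjSpace n k (D : ℤ)
  let M := (Scheme.Modules.pullback ι).obj O
  let η : O ⟶ (Coh.push ι).obj M := (Scheme.Modules.pullbackPushforwardAdjunction ι).unit.app O
  haveI : Coh.IsQCoh M := by
    haveI : Coh.IsQCoh O := Groth.L16.ProjTwist.isQCoh_twist (CohB1.polyGrading n k) (D : ℤ)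
    exact Groth.L16.AffineBC.isQCoh_pullback ι O
  obtain ⟨e⟩ := Groth.L03.Euler.exists_HH_push_linearEquiv (k := k) ι M inferInstance hι 0
  let E : Coh.HH P O 0 ≃+ Γ(O, ⊤) := h0Equiv O
  let L : CohB1.polyGrading n k D →ₗ[k] Coh.HH P O 0 :=
    { toFun := fun p => E.symm (Groth.L02.Quot.Mono.secOf k p)
      map_add' := fun p q => (congrArg E.symm (Groth.L02.Quot.Mono.secOf_add k p q)).trans (map_add E.symm _ _)
      map_smul' := fun r p => by
        refine ((congrArg E.symm ?_).trans
          (CategoryTheory.Sheaf.H.equiv₀_symm_naturality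
            (Limits.isTerminalTop : Limits.IsTerminal (⊤ : P.Opens))
            (Coh.smulAb O (Coh.toGlobal (CohB1.ProjSpace.toSpec n k) r)) (Groth.L02.Quot.Mono.secOf k p)).symm)
        rw [Coh.smulAb_app]
        refine (Groth.L02.Quot.Mono.secOf_smul k r p).trans ?_
        rfl }
  let Φ : CohB1.polyGrading n k D →ₗ[k] Coh.HH P ((Coh.push ι).obj M) 0 :=
    (Groth.L16.CohLinear.overLin k (Groth.L16.CohLinear.hmap η 0)).comp L
  have hΦ : ∀ p, h0Equiv ((Coh.push ι).obj M) (Φ p) = pull ι O ⊤ (Groth.L02.Quot.Mono.secOf k p) := fun p => by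
    refine (h0Equiv_map η (E.symm (Groth.L02.Quot.Mono.secOf k p))).trans ?_
    exact congrArg (η.app ⊤) (AddEquiv.apply_symm_apply E _)
  have hsurj : Function.Surjective Φ := fun z => by
    obtain ⟨s, hs⟩ := hd₀ D hD (h0Equiv ((Coh.push ι).obj M) z)
    obtain ⟨p, rfl⟩ := Groth.L16.ProjSpace.polyToSection_surjective (n := n) (R := k) D s
    exact ⟨p, (h0Equiv _).injective ((hΦ p).trans hs)⟩
  let Ψ : CohB1.polyGrading n k D →ₗ[k] piece k (coord ι) D :=
    LinearMap.codRestrict _ ((aeval (coord ι)).toLinearMap.comp (CohB1.polyGrading n k D).subtype)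
      fun p => aeval_mem_piece p.2
  have hΨ : Function.Surjective Ψ := fun z => by
    obtain ⟨P, hP, hPz⟩ := mem_piece.mp z.2
    exact ⟨⟨P, hP⟩, Subtype.ext hPz⟩
  have hker : LinearMap.ker Φ = LinearMap.ker Ψ := by
    ext p
    rw [LinearMap.mem_ker, LinearMap.mem_ker, ← (h0Equiv _).map_eq_zero_iff, hΦ]
    refine (pull_secOf_eq_zero_iff ι p).trans ((aeval_coord_eq_zero_iff ι p.1).symm.trans ?_)
    exact ⟨fun h => Subtype.ext h, fun h => congrArg Subtype.val h⟩
  rw [e.finrank_eq, coneDim, ← (Φ.quotKerEquivOfSurjective hsurj).finrank_eq, hker,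
    (Ψ.quotKerEquivOfSurjective hΨ).finrank_eq]

theorem nonempty_pullback_add {a b c : ℤ} (h : a + b = c) :
    Nonempty (CohB1.tensorMod ((Scheme.Modules.pullback ι).obj (Twist.twistProjSpace n k a))
      ((Scheme.Modules.pullback ι).obj (Twist.twistProjSpace n k b)) ≅
        (Scheme.Modules.pullback ι).obj (Twist.twistProjSpace n k c)) := by
  obtain ⟨e⟩ := Groth.L22.Reg.nonempty_O_add (n := n) (R := k) h
  exact ⟨Groth.L29.DC.PullTensor.pullTensor ι _ _ ≪≫ (Scheme.Modules.pullback ι).mapIso e⟩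

theorem nonempty_pullback_zero :
    Nonempty ((Scheme.Modules.pullback ι).obj (Twist.twistProjSpace n k 0) ≅ Coh.structureModule Y) := by
  obtain ⟨e⟩ := Groth.L22.Reg.nonempty_O_zero n k
  exact ⟨(Scheme.Modules.pullback ι).mapIso e ≪≫ Groth.L29.LocFree.pullbackUnitIso ι⟩

theorem nonempty_tensorPow_pullback (D : ℕ) :
    Nonempty (CohB1.tensorPow ((Scheme.Modules.pullback ι).obj (Twist.twistProjSpace n k 1)) D ≅
      (Scheme.Modules.pullback ι).obj (Twist.twistProjSpace n k (D : ℤ))) := by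
  induction D with
  | zero =>
    obtain ⟨e⟩ := nonempty_pullback_zero ι
    exact ⟨e.symm⟩
  | succ D ih =>
    obtain ⟨e⟩ := ih
    obtain ⟨e'⟩ := nonempty_pullback_add ι (a := (D : ℤ)) (b := 1) (c := ((D + 1 : ℕ) : ℤ)) (by push_cast; ring)
    exact ⟨tensorIso e (Iso.refl _) ≪≫ e'⟩

/-- The Hilbert function of the cone is eventually the Euler characteristic of the twists. -/
theorem exists_coneDim_eq (hι : ι ≫ CohB1.ProjSpace.toSpec n k = Y ↘ Spec (CommRingCat.of k)) (r : ℕ)
    (hr : topologicalKrullDim Y = r) :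
    ∃ d₀ : ℕ, ∀ D : ℕ, d₀ ≤ D → (coneDim k (coord ι) D : ℤ) =
      (Finset.range (r + 1)).sum (fun i => ((D + i - 1).choose i : ℤ) *
        FGA.intNum k Y r (fun _ : Fin i => (Scheme.Modules.pullback ι).obj (Twist.twistProjSpace n k (-1)))
          (Coh.structureModule Y)) := by
  haveI : IsProper (CohB1.ProjSpace.toSpec n k) := Groth.L16.ProjSpace.isProper_toSpec n k
  haveI : IsProper (Y ↘ Spec (CommRingCat.of k)) := hι ▸ inferInstance
  haveI : IsLocallyNoetherian Y := LocallyOfFiniteType.isLocallyNoetherian (Y ↘ Spec (CommRingCat.of k))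
  let L := (Scheme.Modules.pullback ι).obj (Twist.twistProjSpace n k 1)
  have hO : Coh.IsCoh (Coh.structureModule Y) := Groth.L16.CohClosedPush.isCoh_structure
  have hA : CohB1.IsAmple L :=
    Groth.L18.Ample.isAmple_pullback_of_isAffineHom ι (Groth.L22.VeryAmple.isAmple_O1 n k)
  obtain ⟨d₁, hd₁⟩ := exists_finrank_h0 ι hι
  obtain ⟨d₂, hd₂⟩ := Groth.L16.Existence.exists_vanishing_of_isAmple (A := k) hA hO
  obtain ⟨e1⟩ := nonempty_pullback_add ι (a := 1) (b := -1) (c := 0) (by norm_num)
  obtain ⟨e0⟩ := nonempty_pullback_zero ι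
  refine ⟨max d₁ d₂, fun D hD => ?_⟩
  have hsupp : topologicalKrullDim (CohB1.support (Coh.structureModule Y)) ≤ r :=
    (topologicalKrullDim_subspace_le Y _).trans hr.le
  rw [← Groth.Agent.S11753.result k Y r hr.le L _ hA.1 ⟨e1 ≪≫ e0⟩ (Coh.structureModule Y) hO r hsupp D]
  obtain ⟨eD⟩ := nonempty_tensorPow_pullback ι D
  have h0 : Module.finrank k (Coh.HH Y (CohB1.tensorMod (CohB1.tensorPow L D) (Coh.structureModule Y)) 0) =
      coneDim k (coord ι) D := by
    exact (Groth.L21.RR.h_congr k (tensorUnitRight _ ≪≫ eD) 0).trans (hd₁ D ((le_max_left _ _).trans hD))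
  unfold FGA.eulerCharLE
  rw [Finset.sum_eq_single 0]
  · rw [h0, pow_zero, one_mul]
  · intro q _ hq
    haveI := hd₂ D ((le_max_right _ _).trans hD) q (Nat.pos_of_ne_zero hq)
    rw [Module.finrank_zero_of_subsingleton, Nat.cast_zero, mul_zero]
  · intro h
    exact absurd (Finset.mem_range.2 (Nat.succ_pos r)) h

theorem tendsto_choose_mul_div {i r : ℕ} (hir : i ≤ r) :
    Tendsto (fun D : ℕ => ((D + i - 1).choose i : ℝ) / (D : ℝ) ^ r) atTop
      (𝓝 (if i = r then (1 : ℝ) / r.factorial else 0)) := by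
  have h1 : Tendsto (fun D : ℕ => ((D + i - 1).choose i : ℝ) / (D : ℝ) ^ i) atTop (𝓝 (1 / i.factorial)) := by
    rcases Nat.eq_zero_or_pos i with rfl | hi
    · simp
    · exact (tendsto_choose_div (i - 1) i).congr' (Eventually.of_forall fun D => by
        beta_reduce
        rw [Nat.add_sub_assoc hi])
  obtain ⟨t, rfl⟩ := Nat.exists_eq_add_of_le hir
  rcases Nat.eq_zero_or_pos t with rfl | ht
  · simpa using h1
  · rw [if_neg (by omega)]
    have h2 : Tendsto (fun D : ℕ => ((D : ℝ) ^ t)⁻¹) atTop (𝓝 0) :=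
      tendsto_inv_atTop_zero.comp ((tendsto_pow_atTop ht.ne').comp tendsto_natCast_atTop_atTop)
    have h3 := h1.mul h2
    rw [mul_zero] at h3
    exact h3.congr' (Eventually.of_forall fun D => by beta_reduce; rw [pow_add, div_mul_eq_div_div, div_eq_mul_inv _ ((D : ℝ) ^ t)])

/-- The degree of the cone is the intersection number. -/
theorem hasDeg_coord (hι : ι ≫ CohB1.ProjSpace.toSpec n k = Y ↘ Spec (CommRingCat.of k)) (r : ℕ)
    (hr : topologicalKrullDim Y = r) :
    HasDeg k (coord ι) r (FGA.intNum k Y r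
      (fun _ : Fin r => (Scheme.Modules.pullback ι).obj (Twist.twistProjSpace n k (-1))) (Coh.structureModule Y) : ℝ) := by
  let a : ℕ → ℤ := fun i => FGA.intNum k Y r
    (fun _ : Fin i => (Scheme.Modules.pullback ι).obj (Twist.twistProjSpace n k (-1))) (Coh.structureModule Y)
  obtain ⟨d₀, hd₀⟩ := exists_coneDim_eq ι hι r hr
  have hsum := tendsto_finsetSum (Finset.range (r + 1)) fun i hi =>
    (tendsto_choose_mul_div (Nat.lt_succ_iff.1 (Finset.mem_range.1 hi))).const_mul (a i : ℝ)
  rw [Finset.sum_eq_single r (fun i _ hi => by rw [if_neg hi, mul_zero])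
    (fun h => absurd (Finset.mem_range.2 (Nat.lt_succ_self r)) h), if_pos rfl, ← mul_div_assoc, mul_one] at hsum
  refine hsum.congr' ?_
  filter_upwards [eventually_ge_atTop d₀] with D hD
  have h := congrArg (fun z : ℤ => (z : ℝ)) (hd₀ D hD)
  push_cast at h
  rw [h, Finset.sum_div]
  exact Finset.sum_congr rfl fun i _ => by ring

/-- The intersection number is a positive natural number, the degree of the cone. -/
theorem exists_deg (hι : ι ≫ CohB1.ProjSpace.toSpec n k = Y ↘ Spec (CommRingCat.of k)) (r : ℕ)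
    (hr : topologicalKrullDim Y = r) :
    ∃ d : ℕ, 1 ≤ d ∧ FGA.intNum k Y r
      (fun _ : Fin r => (Scheme.Modules.pullback ι).obj (Twist.twistProjSpace n k (-1))) (Coh.structureModule Y) = d ∧
        HasDeg k (coord ι) r (d : ℝ) := by
  have h := hasDeg_coord ι hι r hr
  have h1 := (isCone_coord ι hr).one_le_deg h
  generalize FGA.intNum k Y r (fun _ : Fin r => (Scheme.Modules.pullback ι).obj (Twist.twistProjSpace n k (-1)))
    (Coh.structureModule Y) = a at h h1 ⊢
  have ha : 1 ≤ a := by exact_mod_cast h1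
  refine ⟨a.toNat, by omega, (Int.toNat_of_nonneg (by omega)).symm, ?_⟩
  rwa [show ((a.toNat : ℕ) : ℝ) = (a : ℝ) by exact_mod_cast Int.toNat_of_nonneg (by omega : 0 ≤ a)]

end Groth.L03.LWU.Bridge
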