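import Groth.Agent.L03.LWU.Bridge.Points
import Groth.Agent.L22.ProjDict
import Groth.Agent.L22.SchemeDim

/-!
# The dimension of the cone
-/

set_option autoImplicit false
set_option linter.style.haveILetI false
set_option linter.unusedSectionVars false
set_option backward.isDefEq.respectTransparency false

universe u

open CategoryTheory AlgebraicGeometry MvPolynomial

noncomputable section

namespace Groth.L03.LWU.Bridge

variable {k : Type u} [Field k] {n : ℕ} {Y : Scheme.{u}} (ι : Y ⟶ CohB1.ProjSpace n k)
  [IsClosedImmersion ι] [IsIntegral Y]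

theorem topologicalKrullDim_eq_closure :
    topologicalKrullDim Y = topologicalKrullDim (closure ({ι (genericPoint Y)} : Set (CohB1.ProjSpace n k))) := by
  rw [← range_eq_closure ι]
  exact ι.isClosedEmbedding.isEmbedding.toHomeomorph.isHomeomorph.topologicalKrullDim_eq

theorem trdeg_coneField {r : ℕ} (hr : topologicalKrullDim Y = r) :
    Algebra.trdeg k (ConeField ι) = (r + 1 : ℕ) := by
  obtain ⟨e, he, hcone⟩ := Groth.L22.ProjDict.exists_dim_closure (k := k) (n := n) (ι (genericPoint Y))
  have her : e = r := by
    have h : ((e : ℕ) : WithBot ℕ∞) = (r : WithBot ℕ∞) := by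
      rw [← he, ← hr, topologicalKrullDim_eq_closure ι]
    exact_mod_cast h
  subst her
  exact Groth.L22.AffineDim.trdeg_fractionRing k (MvPolynomial (Fin (n + 1)) k ⧸ genIdeal ι) (ConeField ι) hcone

/-- The coordinates of a closed subvariety form a cone. -/
theorem isCone_coord {r : ℕ} (hr : topologicalKrullDim Y = r) : IsCone k (coord ι) r where
  homog P hP D := (aeval_coord_eq_zero_iff ι _).2 (component_mem_genIdeal ι ((aeval_coord_eq_zero_iff ι P).1 hP) D)
  gen := gen_coord ι
  dim := trdeg_coneField ι hr

end Groth.L03.LWU.Bridge
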