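import Mathlib.Analysis.SpecialFunctions.Pow.Real
import Mathlib.Algebra.Ring.GeomSum
import Mathlib.Tactic.Linarith
import Mathlib.Tactic.FieldSimp

/-!
# From cones to projective varieties: the arithmetic
-/

set_option autoImplicit false

namespace Groth.L03.LWU.Bridge

theorem abs_sub_le_of_cone {q N m B A : ℝ} {r : ℕ} (hq : 2 ≤ q) (hm : 0 ≤ m) (hB : 0 ≤ B) (hA : 0 ≤ A)
    (h : |N * (q - 1) - m * (q ^ (r + 1) - 1)| ≤ q ^ r * (B * Real.sqrt q + A)) :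
    |N - m * q ^ r| ≤ B * q ^ ((r : ℝ) - 1 / 2) + (2 * B + 2 * A + 2 * m) * q ^ ((r : ℝ) - 1) := by
  have hq0 : 0 < q := by linarith
  have hq1 : 0 < q - 1 := by linarith
  have hQ : q ^ ((r : ℝ) - 1) = q ^ r / q := by
    rw [Real.rpow_sub hq0, Real.rpow_one, Real.rpow_natCast]
  have hH : q ^ ((r : ℝ) - 1 / 2) = q ^ r / Real.sqrt q := by
    rw [Real.rpow_sub hq0, Real.rpow_natCast, Real.sqrt_eq_rpow]
  have hs : 0 < Real.sqrt q := Real.sqrt_pos.2 hq0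
  have hss : Real.sqrt q * Real.sqrt q = q := Real.mul_self_sqrt hq0.le
  have hs1 : 1 ≤ Real.sqrt q := by rw [Real.one_le_sqrt]; linarith
  set S := ∑ i ∈ Finset.range (r + 1), q ^ i with hSdef
  have hS : q ^ (r + 1) - 1 = S * (q - 1) := (geom_sum_mul q (r + 1)).symm
  have h1 : |N - m * S| ≤ q ^ r * (B * Real.sqrt q + A) / (q - 1) := by
    rw [le_div_iff₀ hq1, ← abs_of_pos hq1, ← abs_mul]
    rwa [sub_mul, mul_assoc, ← hS]
  have hpow : 0 ≤ q ^ r := by positivity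
  have hS2 : |m * S - m * q ^ r| ≤ 2 * m * (q ^ r / q) := by
    have hS1 : S - q ^ r = (q ^ r - 1) / (q - 1) := by
      rw [eq_div_iff hq1.ne', hSdef, Finset.sum_range_succ, add_sub_cancel_right, geom_sum_mul]
    have hb : (q ^ r - 1) / (q - 1) ≤ 2 * (q ^ r / q) := by
      rw [← mul_div_assoc, div_le_div_iff₀ hq1 hq0]
      nlinarith [mul_nonneg hpow (by linarith : 0 ≤ q - 2)]
    have hn : 0 ≤ (q ^ r - 1) / (q - 1) :=
      div_nonneg (by linarith [one_le_pow₀ (n := r) (by linarith : (1 : ℝ) ≤ q)]) hq1.le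
    rw [← mul_sub, hS1, abs_mul, abs_of_nonneg hm, abs_of_nonneg hn]
    calc m * ((q ^ r - 1) / (q - 1)) ≤ m * (2 * (q ^ r / q)) := mul_le_mul_of_nonneg_left hb hm
      _ = _ := by ring
  have h2 : q ^ r * (B * Real.sqrt q + A) / (q - 1) ≤
      B * (q ^ r / Real.sqrt q) + (2 * B + 2 * A) * (q ^ r / q) := by
    have e1 : B * (q ^ r / Real.sqrt q) + (2 * B + 2 * A) * (q ^ r / q) =
        q ^ r * (B * Real.sqrt q + (2 * B + 2 * A)) / q := by
      rw [eq_div_iff hq0.ne', add_mul, mul_assoc (2 * B + 2 * A), div_mul_cancel₀ _ hq0.ne', mul_assoc B]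
      rw [show q ^ r / Real.sqrt q * q = q ^ r * Real.sqrt q by
        rw [div_mul_eq_mul_div, div_eq_iff hs.ne', mul_assoc, hss]]
      ring
    rw [e1, div_le_div_iff₀ hq1 hq0]
    have hsq : Real.sqrt q ≤ 2 * (q - 1) := by nlinarith
    have key : B * Real.sqrt q + A * q ≤ (2 * B + 2 * A) * (q - 1) := by
      nlinarith [mul_le_mul_of_nonneg_left hsq hB, mul_nonneg hA (by linarith : 0 ≤ q - 2)]
    nlinarith [mul_le_mul_of_nonneg_left key hpow]
  rw [hQ, hH]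
  calc |N - m * q ^ r| ≤ |N - m * S| + |m * S - m * q ^ r| := abs_sub_le _ _ _
    _ ≤ _ := add_le_add h1 hS2
    _ ≤ _ := by nlinarith [h2]

theorem main_term_bound {m d : ℝ} (hm : 1 ≤ m) {d1 : ℕ} (h1 : 1 ≤ d1) (hd : d = m * d1) :
    0 ≤ (d - m) * (d - 2 * m) / m ∧ (d - m) * (d - 2 * m) / m ≤ d ^ 2 + 2 * d ^ 2 := by
  have hm0 : 0 < m := by linarith
  have e : (d - m) * (d - 2 * m) / m = m * ((d1 : ℝ) - 1) * ((d1 : ℝ) - 2) := by
    rw [div_eq_iff hm0.ne', hd]; ring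
  rw [e]
  have hprod : 0 ≤ ((d1 : ℝ) - 1) * ((d1 : ℝ) - 2) := by
    rcases d1 with _ | _ | j
    · norm_num
    · norm_num
    · push_cast
      nlinarith [(Nat.cast_nonneg j : (0 : ℝ) ≤ j)]
  refine ⟨by rw [mul_assoc]; exact mul_nonneg hm0.le hprod, ?_⟩
  have : (1 : ℝ) ≤ d1 := by exact_mod_cast h1
  rw [hd]
  nlinarith [mul_le_mul_of_nonneg_left (show ((d1 : ℝ) - 1) * ((d1 : ℝ) - 2) ≤ 3 * d1 ^ 2 by nlinarith) hm0.le,
      mul_le_mul_of_nonneg_right hm (by positivity : (0 : ℝ) ≤ m * (d1 : ℝ) ^ 2)]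

end Groth.L03.LWU.Bridge
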