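import Groth.Agent.L03.LWU.Bridge.Degree
import Groth.Agent.L03.LWU.Bridge.Constants
import Groth.Agent.L03.LWU.Bridge.Final

/-!
# Point counts from cone counts
-/

set_option autoImplicit false
set_option linter.style.haveILetI false
set_option linter.unusedSectionVars false

universe u

open CategoryTheory AlgebraicGeometry MvPolynomial

noncomputable section

namespace Groth.L03.LWU.Bridge

variable {k : Type u} [Field k] [Finite k] {n : ℕ} {Y : Scheme.{u}} (ι : Y ⟶ CohB1.ProjSpace n k)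
  [IsClosedImmersion ι] [IsIntegral Y]

/-- Translating the estimate for the cone. -/
theorem estimate_of_cone {r d D0 : ℕ} {A : ℝ} (hA : 0 ≤ A) (hdim : topologicalKrullDim Y = r)
    (hd : HasDeg k (coord ι) r (d : ℝ)) (hdD : d ≤ D0) (k' : Type u) [Field k'] [Algebra k k'] [Finite k']
    (h : |(Nat.card (ConePts k (coord ι) k') : ℝ) - 1 -
        constDeg k (ConeField ι) * ((Nat.card k' : ℝ) ^ (r + 1) - 1)| ≤
      (Nat.card k' : ℝ) ^ r * (((d : ℝ) - constDeg k (ConeField ι)) * ((d : ℝ) - 2 * constDeg k (ConeField ι)) /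
        constDeg k (ConeField ι) * Real.sqrt (Nat.card k') + A)) :
    |(SgaExt.pointCount (ι ≫ CohB1.ProjSpace.toSpec n k) k' : ℝ) -
        constDeg k (ConeField ι) * (Nat.card k : ℝ) ^ (Module.finrank k k' * r)| ≤
      ((d : ℝ) - constDeg k (ConeField ι)) * ((d : ℝ) - 2 * constDeg k (ConeField ι)) / constDeg k (ConeField ι) *
          (Nat.card k : ℝ) ^ ((Module.finrank k k' : ℝ) * ((r : ℝ) - 1 / 2)) +
        (6 * (D0 : ℝ) ^ 2 + 2 * A + 2 * D0 + 1) * (Nat.card k : ℝ) ^ ((Module.finrank k k' : ℝ) * ((r : ℝ) - 1)) := by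
  have hx := isCone_coord ι hdim
  haveI := hx.finite_constants hd
  obtain ⟨-, -, d1, hd1, hdd, -⟩ := hx.over_constants hd
  haveI : Module.Finite k k' := Module.Finite.of_finite
  set m := constDeg k (ConeField ι) with hm
  have hm1 : 1 ≤ m := Module.finrank_pos
  have hmd : m ≤ D0 := le_trans (by
    have : d = m * d1 := by exact_mod_cast hdd
    rw [this]; exact Nat.le_mul_of_pos_right _ hd1) hdD
  obtain ⟨hB0, hB⟩ := main_term_bound (m := (m : ℝ)) (d := (d : ℝ)) (by exact_mod_cast hm1) hd1 hdd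
  have hq : (2 : ℝ) ≤ Nat.card k' := by exact_mod_cast (Finite.one_lt_card (α := k'))
  rw [← card_conePts_eq ι k'] at h
  push_cast [Nat.cast_sub (Nat.card_pos (α := k')).nat_succ_le] at h
  rw [add_sub_cancel_right] at h
  have hest := abs_sub_le_of_cone (N := (SgaExt.pointCount (ι ≫ CohB1.ProjSpace.toSpec n k) k' : ℝ))
    hq (Nat.cast_nonneg m) hB0 hA h
  have hk : (Nat.card k' : ℝ) = (Nat.card k : ℝ) ^ Module.finrank k k' := by
    rw [Module.natCard_eq_pow_finrank (K := k)]; push_cast; rfl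
  rw [hk, ← pow_mul, ← Real.rpow_natCast_mul (Nat.cast_nonneg _), ← Real.rpow_natCast_mul (Nat.cast_nonneg _)] at hest
  refine hest.trans (add_le_add le_rfl (mul_le_mul_of_nonneg_right ?_ (Real.rpow_nonneg (Nat.cast_nonneg _) _)))
  have hmd' : (m : ℝ) ≤ D0 := by exact_mod_cast hmd
  have hdD' : (d : ℝ) ≤ D0 := by exact_mod_cast hdD
  have hsq : (d : ℝ) ^ 2 ≤ (D0 : ℝ) ^ 2 := pow_le_pow_left₀ (Nat.cast_nonneg _) hdD' 2
  linarith

end Groth.L03.LWU.Bridge
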