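import Groth.Agent.L03.LWU.Bridge.Restrict
import Groth.Agent.L03.LangWeil.Scheme
import Groth.Agent.L16.ProjSpace.CoordSect

/-!
# The generic point of the cone
-/

set_option autoImplicit false
set_option linter.style.haveILetI false
set_option linter.unusedSectionVars false
set_option backward.isDefEq.respectTransparency false
set_option backward.isDefEq.respectTransparency.types false

universe u

open CategoryTheory CategoryTheory.Limits AlgebraicGeometry MvPolynomial TopologicalSpace
open Groth.L03.LangWeil (sectAlg sectAlg_spec)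

noncomputable section

namespace Groth.L03.LWU.Bridge

variable {k : Type u} [Field k] {n : ℕ} {Y : Scheme.{u}} (ι : Y ⟶ CohB1.ProjSpace n k)
  [IsClosedImmersion ι] [IsIntegral Y]

/-- The standard open of projective space. -/
abbrev stdOpen (n : ℕ) (k : Type u) [Field k] (j : Fin (n + 1)) : (CohB1.ProjSpace n k).Opens :=
  Proj.basicOpen (CohB1.polyGrading n k) (X j)

theorem isAffineOpen_stdOpen (j : Fin (n + 1)) : IsAffineOpen (stdOpen n k j) :=
  Proj.isAffineOpen_basicOpen (CohB1.polyGrading n k) (X j) (isHomogeneous_X k j) one_pos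

/-- The lift of the generic point of the cone. -/
theorem exists_generic_lift (j : Fin (n + 1)) (hj : (X j : MvPolynomial (Fin (n + 1)) k) ∉ genIdeal ι) :
    letI := sectAlg (ι ≫ CohB1.ProjSpace.toSpec n k) ((isAffineOpen_stdOpen j).preimage ι)
    ∃ (hξ : genericPoint Y ∈ ι ⁻¹ᵁ stdOpen n k j) (ψ : Γ(Y, ι ⁻¹ᵁ stdOpen n k j) →ₐ[k] ConeField ι),
      RingHom.ker ψ = (((isAffineOpen_stdOpen j).preimage ι).primeIdealOf ⟨genericPoint Y, hξ⟩).asIdeal ∧
      ∀ (D : ℕ) (p : CohB1.polyGrading n k D),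
        ψ (ι.app _ (Groth.L02.Quot.Mono.rat n k p (⟨X j, isHomogeneous_X k j⟩ : CohB1.polyGrading n k 1))) *
          coord ι j ^ D = aeval (coord ι) p.1 := by
  set f := ι ≫ CohB1.ProjSpace.toSpec n k with hfdef
  have hD := isAffineOpen_stdOpen (k := k) j
  have hU := hD.preimage ι
  letI := sectAlg f hU
  have hξ : genericPoint Y ∈ ι ⁻¹ᵁ stdOpen n k j := (Proj.mem_basicOpen _ _ _).2 hj
  refine ⟨hξ, ?_⟩
  have hxj : IsUnit (coord ι j) := by
    refine Ne.isUnit fun h => hj ((aeval_coord_eq_zero_iff ι (X j)).1 ?_)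
    rw [aeval_X]; exact h
  let L := ConeField ι
  let g := Groth.L18.PS.tuplePt (B := CommRingCat.of L) (algebraMap k L) (coord ι) j hxj
  haveI := Groth.L11.ZetaCounts.spec_field_subsingleton L
  let z : ↥(Spec (CommRingCat.of L)) := (⊥ : PrimeSpectrum L)
  have hgz : g z = ι (genericPoint Y) := by
    have h1 : ι (genericPoint Y) ⤳ g z := by
      rw [specializes_iff_mem_closure, ← range_eq_closure ι]
      exact (tuplePt_mem_range_iff ι (coord ι) j hxj z).2 fun P hP => hP
    have h2 : (g z).asHomogeneousIdeal.toIdeal ≤ genIdeal ι := by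
      intro P hP
      rw [← sum_homogeneousComponent P]
      refine Ideal.sum_mem _ fun D _ => ?_
      have hc : homogeneousComponent D P ∈ (g z).asHomogeneousIdeal.toIdeal := by
        have h := (g z).asHomogeneousIdeal.isHomogeneous D hP
        rwa [show (DirectSum.decompose (CohB1.polyGrading n k) P D : MvPolynomial (Fin (n + 1)) k) =
          homogeneousComponent D P from decomposition.decompose'_apply P D] at h
      rcases Nat.eq_zero_or_pos D with rfl | hD0
      · rw [homogeneousComponent_zero] at hc ⊢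
        by_contra hne
        have hc0 : coeff 0 P ≠ 0 := fun h0 => hne (by rw [h0, C_0]; exact zero_mem _)
        exact (g z).isPrime.ne_top (Ideal.eq_top_of_isUnit_mem _ hc ((Ne.isUnit hc0).map C))
      · rw [← aeval_coord_eq_zero_iff ι]
        have h := SetLike.ext_iff.1 (Groth.L18.PS.tuplePt_preimage_basicOpen (B := CommRingCat.of L)
          (algebraMap k L) (coord ι) j hxj _ (homogeneousComponent_isHomogeneous D P) hD0) z
        have hz : z.asIdeal = ⊥ := rfl
        change (homogeneousComponent D P ∉ (g z).asHomogeneousIdeal ↔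
          eval₂Hom (algebraMap k L) (coord ι) (homogeneousComponent D P) ∉ z.asIdeal) at h
        rw [hz, Ideal.mem_bot, not_iff_not] at h
        exact h.1 hc
    have h3 : g z ⤳ ι (genericPoint Y) := by
      rw [specializes_iff_mem_closure]
      exact (ProjectiveSpectrum.le_iff_mem_closure _ _ _).1
        ((ProjectiveSpectrum.as_ideal_le_as_ideal _ _ _).1 h2)
    exact (h3.antisymm h1).eq
  haveI : Surjective (pullback.snd ι g) := ⟨fun x => by
    have hx : g x ∈ Set.range ι := ⟨genericPoint Y, by rw [Subsingleton.elim x z, hgz]⟩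
    show x ∈ Set.range (pullback.snd ι g)
    rw [Scheme.Pullback.range_snd ι g]
    exact hx⟩
  haveI : IsIso (pullback.snd ι g) := isIso_of_isClosedImmersion_of_surjective _
  let g' : Spec (CommRingCat.of L) ⟶ Y := inv (pullback.snd ι g) ≫ pullback.fst ι g
  have hg' : g' ≫ ι = g := by rw [Category.assoc, pullback.condition, IsIso.inv_hom_id_assoc]
  have hg'pt : ∀ x, g' x = genericPoint Y := fun x => by
    apply ι.isClosedEmbedding.injective
    rw [← Scheme.Hom.comp_apply, hg', Subsingleton.elim x z, hgz]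
  have hrange : Set.range g' ⊆ Set.range hU.fromSpec := by
    rintro _ ⟨x, rfl⟩
    rw [hU.range_fromSpec, hg'pt]
    exact hξ
  let l := IsOpenImmersion.lift hU.fromSpec g' hrange
  have hl : l ≫ hU.fromSpec = g' := IsOpenImmersion.lift_fac _ _ _
  let ψ₀ := Spec.preimage l
  have hψ₀ : Spec.map ψ₀ = l := Spec.map_preimage l
  have hcomm : ∀ c, ψ₀.hom (algebraMap k Γ(Y, ι ⁻¹ᵁ stdOpen n k j) c) = algebraMap k L c := by
    have h : Spec.map (CommRingCat.ofHom (algebraMap k Γ(Y, ι ⁻¹ᵁ stdOpen n k j)) ≫ ψ₀) =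
        Spec.map (CommRingCat.ofHom (algebraMap k L)) := by
      rw [Spec.map_comp, hψ₀, ← sectAlg_spec f hU, ← Category.assoc, hl, hfdef, ← Category.assoc, hg']
      exact Groth.L18.PS.tuplePt_toSpec (B := CommRingCat.of L) _ _ _ _
    exact fun c => congr(($(Spec.map_injective h)).hom c)
  refine ⟨{ ψ₀.hom with commutes' := hcomm }, ?_, fun D p => ?_⟩
  · have h1 : (Spec.map ψ₀) z = hU.primeIdealOf ⟨genericPoint Y, hξ⟩ := by
      apply hU.fromSpec.isOpenEmbedding.injective
      rw [hU.fromSpec_primeIdealOf, hψ₀, ← Scheme.Hom.comp_apply, hl, hg'pt]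
    rw [← h1]
    rfl
  · let A := CohB1.polyGrading n k
    have hp : p.1 ∈ A (D • 1) := by rw [smul_eq_mul, mul_one]; exact p.2
    let a := HomogeneousLocalization.Away.mk A (show (X j : MvPolynomial (Fin (n + 1)) k) ∈ A 1 from isHomogeneous_X k j) D p.1 hp
    have hle : ⊤ ≤ Groth.L18.PS.chart n k j ⁻¹ᵁ stdOpen n k j := fun x _ =>
      (Groth.L18.PS.range_chart (n := n) (R := k) j).le ⟨x, rfl⟩
    have hchart : (Groth.L18.PS.chart n k j).appLE (stdOpen n k j) ⊤ hle (Proj.awayToSection A (X j) a) =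
        (Scheme.ΓSpecIso _).inv a :=
      congr(($(Groth.L16.ProjSpace.chartAway_appLE (n := n) (R := k) j hle)).hom a)
    let φ := CommRingCat.ofHom (Groth.L18.PS.chartHom (B := L) (algebraMap k L) (coord ι) j hxj)
    have h2 : Spec.map (ι.app (stdOpen n k j) ≫ ψ₀) ≫ hD.fromSpec = Spec.map φ ≫ Groth.L18.PS.chart n k j := by
      rw [Spec.map_comp, hψ₀, Category.assoc, Scheme.Hom.app_eq_appLE, hD.SpecMap_appLE_fromSpec ι hU le_rfl,
        ← Category.assoc, hl, hg']
      rfl
    set σ := ι.app (stdOpen n k j) (Groth.L02.Quot.Mono.rat n k p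
      (⟨X j, isHomogeneous_X k j⟩ : CohB1.polyGrading n k 1)) with hσ
    have key : ∀ (R : CommRingCat.{u}) (χ : R ⟶ CommRingCat.of L) (c : Spec R ⟶ CohB1.ProjSpace n k)
        (hc : ⊤ ≤ c ⁻¹ᵁ stdOpen n k j) (s : Γ(CohB1.ProjSpace n k, stdOpen n k j)) (r : R)
        (hr : c.appLE (stdOpen n k j) ⊤ hc s = (Scheme.ΓSpecIso R).inv r)
        (h : ⊤ ≤ (Spec.map χ ≫ c) ⁻¹ᵁ stdOpen n k j),
        (Spec.map χ ≫ c).appLE (stdOpen n k j) ⊤ h s = (Scheme.ΓSpecIso (CommRingCat.of L)).inv (χ r) := by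
      intro R χ c hc s r hr h
      rw [← Scheme.Hom.appLE_comp_appLE (Spec.map χ) c (stdOpen n k j) ⊤ ⊤ hc le_top, CommRingCat.comp_apply, hr]
      exact congr(($(Scheme.ΓSpecIso_inv_naturality χ)).hom r).symm
    have hfrom : ⊤ ≤ hD.fromSpec ⁻¹ᵁ stdOpen n k j := hD.fromSpec_preimage_self.ge
    have hsec : hD.fromSpec.appLE (stdOpen n k j) ⊤ hfrom (Proj.awayToSection A (X j) a) =
        (Scheme.ΓSpecIso Γ(CohB1.ProjSpace n k, stdOpen n k j)).inv (Proj.awayToSection A (X j) a) := by
      rw [Scheme.Hom.appLE, CommRingCat.comp_apply, hD.fromSpec_app_self, CommRingCat.comp_apply,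
        ← CommRingCat.comp_apply, ← Functor.map_comp]
      have : ∀ (U : (Spec Γ(CohB1.ProjSpace n k, stdOpen n k j)).Opens) (i : U ⟶ U) (t),
          (Spec Γ(CohB1.ProjSpace n k, stdOpen n k j)).presheaf.map i.op t = t := fun U i t => by
        rw [Subsingleton.elim i (𝟙 U)]; simp
      exact this _ _ _
    have hall : ⊤ ≤ (Spec.map φ ≫ Groth.L18.PS.chart n k j) ⁻¹ᵁ stdOpen n k j := by
      rw [Scheme.Hom.comp_preimage]
      exact fun x _ => hle (trivial : (Spec.map φ x) ∈ (⊤ : Opens _))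
    have e1 := key _ (ι.app (stdOpen n k j) ≫ ψ₀) hD.fromSpec hfrom _ _ hsec (h2 ▸ hall)
    have e2 := key _ φ (Groth.L18.PS.chart n k j) hle _ _ hchart hall
    have e3 : (ι.app (stdOpen n k j) ≫ ψ₀) (Proj.awayToSection A (X j) a) = φ a := by
      apply (ConcreteCategory.bijective_of_isIso (Scheme.ΓSpecIso (CommRingCat.of L)).inv).1
      rw [← e1, ← e2]
      simp only [h2]
    have h4 := Groth.L18.PS.awayEval_mk (algebraMap k L) (coord ι) (X j)
      (Groth.L18.PS.isUnit_eval_X (algebraMap k L) (coord ι) hxj) (Groth.L18.PS.X_mem n j) D p.1 hp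
    rw [eval₂Hom_X'] at h4
    refine Eq.trans ?_ h4
    exact congrArg (· * coord ι j ^ D) e3

end Groth.L03.LWU.Bridge
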