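import Groth.Agent.L03.LWU.Cone.Count
import Groth.Agent.L11.Zeta.Counts
import Mathlib.RingTheory.Localization.FractionRing
import Groth.Prelude.Def_SgaExt

/-!
# The cone of an integral closed subscheme of projective space
-/

set_option autoImplicit false
set_option linter.style.haveILetI false
set_option linter.unusedSectionVars false
set_option backward.isDefEq.respectTransparency false
set_option backward.isDefEq.respectTransparency.types false

universe u

open CategoryTheory CategoryTheory.Limits AlgebraicGeometry MvPolynomial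

noncomputable section

namespace Groth.L03.LWU.Bridge

variable {k : Type u} [Field k] {n : ℕ} {Y : Scheme.{u}} (ι : Y ⟶ CohB1.ProjSpace n k)
  [IsClosedImmersion ι] [IsIntegral Y]

/-- The homogeneous prime of the generic point. -/
abbrev genIdeal : Ideal (MvPolynomial (Fin (n + 1)) k) :=
  (ι (genericPoint Y)).asHomogeneousIdeal.toIdeal

instance isPrime_genIdeal : (genIdeal ι).IsPrime := (ι (genericPoint Y)).isPrime

/-- The field of functions of the cone. -/
abbrev ConeField : Type u := FractionRing (MvPolynomial (Fin (n + 1)) k ⧸ genIdeal ι)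

/-- The homogeneous coordinates in the field of functions of the cone. -/
def coord (i : Fin (n + 1)) : ConeField ι :=
  algebraMap (MvPolynomial (Fin (n + 1)) k ⧸ genIdeal ι) (ConeField ι) (Ideal.Quotient.mk _ (X i))

omit [IsClosedImmersion ι] in
theorem aeval_coord (P : MvPolynomial (Fin (n + 1)) k) :
    aeval (coord ι) P =
      algebraMap (MvPolynomial (Fin (n + 1)) k ⧸ genIdeal ι) (ConeField ι) (Ideal.Quotient.mk _ P) := by
  have h : aeval (coord ι) =
      (IsScalarTower.toAlgHom k (MvPolynomial (Fin (n + 1)) k ⧸ genIdeal ι) (ConeField ι)).comp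
        (Ideal.Quotient.mkₐ k (genIdeal ι)) := MvPolynomial.algHom_ext fun i => by simp [coord]
  rw [h]
  rfl

theorem aeval_coord_eq_zero_iff (P : MvPolynomial (Fin (n + 1)) k) :
    aeval (coord ι) P = 0 ↔ P ∈ genIdeal ι := by
  rw [aeval_coord, map_eq_zero_iff _ (IsFractionRing.injective _ _), Ideal.Quotient.eq_zero_iff_mem]

omit [IsClosedImmersion ι] in
theorem component_mem_genIdeal {P : MvPolynomial (Fin (n + 1)) k} (hP : P ∈ genIdeal ι) (D : ℕ) :
    homogeneousComponent D P ∈ genIdeal ι := by
  have h := (ι (genericPoint Y)).asHomogeneousIdeal.isHomogeneous D hP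
  rwa [show (DirectSum.decompose (CohB1.polyGrading n k) P D : MvPolynomial (Fin (n + 1)) k) =
    homogeneousComponent D P from decomposition.decompose'_apply P D] at h

theorem gen_coord : IntermediateField.adjoin k (Set.range (coord ι)) = ⊤ := by
  refine eq_top_iff.mpr fun a _ => ?_
  obtain ⟨b, s, hs, rfl⟩ := IsFractionRing.div_surjective (A := MvPolynomial (Fin (n + 1)) k ⧸ genIdeal ι) a
  obtain ⟨P, rfl⟩ := Ideal.Quotient.mk_surjective b
  obtain ⟨Q, rfl⟩ := Ideal.Quotient.mk_surjective s
  rw [← aeval_coord, ← aeval_coord]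
  exact (IntermediateField.mem_adjoin_range_iff (F := k) (i := coord ι) _).mpr ⟨P, Q, rfl⟩

theorem range_eq_closure : Set.range ι = closure {ι (genericPoint Y)} := by
  have h := ι.isClosedEmbedding.closure_image_eq {genericPoint Y}
  rw [Set.image_singleton] at h
  rw [h, genericPoint_closure, Set.image_univ]

/-- A point of projective space with coordinates `v` lies on `X` iff `v` lies on the cone. -/
theorem tuplePt_mem_range_iff {k' : Type u} [Field k'] [Algebra k k'] (v : Fin (n + 1) → k') (i : Fin (n + 1))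
    (hi : IsUnit (v i)) (z : ↥(Spec (CommRingCat.of k'))) :
    (Groth.L18.PS.tuplePt (B := CommRingCat.of k') (algebraMap k k') v i hi) z ∈ Set.range ι ↔
      ∀ P : MvPolynomial (Fin (n + 1)) k, aeval (coord ι) P = 0 → aeval v P = 0 := by
  classical
  set y := (Groth.L18.PS.tuplePt (B := CommRingCat.of k') (algebraMap k k') v i hi) z with hy
  have key : ∀ (P : MvPolynomial (Fin (n + 1)) k) (D : ℕ), P.IsHomogeneous D → 0 < D →
      (P ∈ y.asHomogeneousIdeal.toIdeal ↔ aeval v P = 0) := by
    intro P D hP hD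
    have h := SetLike.ext_iff.1 (Groth.L18.PS.tuplePt_preimage_basicOpen (B := CommRingCat.of k')
      (algebraMap k k') v i hi P hP hD) z
    have hz : z.asIdeal = ⊥ := (Ideal.eq_bot_or_top z.asIdeal).resolve_right z.isPrime.ne_top
    change (P ∉ y.asHomogeneousIdeal ↔ eval₂Hom (algebraMap k k') v P ∉ z.asIdeal) at h
    rw [hz, Ideal.mem_bot, not_iff_not] at h
    exact h
  rw [range_eq_closure, ← ProjectiveSpectrum.le_iff_mem_closure, ← ProjectiveSpectrum.as_ideal_le_as_ideal]
  constructor
  · intro hle P hP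
    rw [aeval_coord_eq_zero_iff] at hP
    rw [← sum_homogeneousComponent P, map_sum]
    refine Finset.sum_eq_zero fun D _ => ?_
    have hc := component_mem_genIdeal ι hP D
    rcases Nat.eq_zero_or_pos D with rfl | hD
    · rw [homogeneousComponent_zero] at hc ⊢
      by_contra hne
      have hc0 : coeff 0 P ≠ 0 := fun h0 => hne (by rw [h0, C_0, map_zero])
      exact (isPrime_genIdeal ι).ne_top (Ideal.eq_top_of_isUnit_mem _ hc ((Ne.isUnit hc0).map C))
    · exact (key _ D (homogeneousComponent_isHomogeneous D P) hD).1 (hle hc)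
  · intro h P hP
    show P ∈ y.asHomogeneousIdeal.toIdeal
    rw [← sum_homogeneousComponent P]
    refine Ideal.sum_mem _ fun D _ => ?_
    have hc := component_mem_genIdeal ι hP D
    rcases Nat.eq_zero_or_pos D with rfl | hD
    · rw [homogeneousComponent_zero] at hc ⊢
      by_contra hne
      have hc0 : coeff 0 P ≠ 0 := fun h0 => hne (by rw [h0, C_0]; exact zero_mem _)
      exact (isPrime_genIdeal ι).ne_top (Ideal.eq_top_of_isUnit_mem _ hc ((Ne.isUnit hc0).map C))
    · exact (key _ D (homogeneousComponent_isHomogeneous D P) hD).2 (h _ ((aeval_coord_eq_zero_iff ι _).2 hc))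

/-- The points of `X` are the nonzero points of the cone, up to scaling. -/
theorem card_conePts_eq (k' : Type u) [Field k'] [Algebra k k'] [Finite k'] :
    SgaExt.pointCount (ι ≫ CohB1.ProjSpace.toSpec n k) k' * (Nat.card k' - 1) + 1 =
      Nat.card (ConePts k (coord ι) k') := by
  classical
  haveI := Groth.L11.ZetaCounts.spec_field_subsingleton k'
  let x₀ : ↥(Spec (CommRingCat.of k')) := (⊥ : PrimeSpectrum k')
  let V := {v : Fin (n + 1) → k' // v ≠ 0 ∧ ∀ P : MvPolynomial (Fin (n + 1)) k, aeval (coord ι) P = 0 → aeval v P = 0}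
  let T := {g : Spec (CommRingCat.of k') ⟶ Y //
    g ≫ ι ≫ CohB1.ProjSpace.toSpec n k = Spec.map (CommRingCat.ofHom (algebraMap k k'))}
  have hidx : ∀ v : V, ∃ i, IsUnit (v.1 i) := fun v => by
    obtain ⟨i, hi⟩ := Function.ne_iff.1 v.2.1
    exact ⟨i, Ne.isUnit hi⟩
  choose idx hidx using hidx
  have hlift : ∀ v : V, ∃ g : T, g.1 ≫ ι =
      Groth.L18.PS.tuplePt (B := CommRingCat.of k') (algebraMap k k') v.1 (idx v) (hidx v) := by
    intro v
    set f := Groth.L18.PS.tuplePt (B := CommRingCat.of k') (algebraMap k k') v.1 (idx v) (hidx v)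
    haveI : IsReduced (Spec (CommRingCat.of k')) := inferInstance
    haveI : Surjective (pullback.snd ι f) := ⟨fun x => by
      have hx : f x ∈ Set.range ι := (tuplePt_mem_range_iff ι _ _ _ _).2 v.2.2
      have h := Scheme.Pullback.range_snd ι f
      show x ∈ Set.range (pullback.snd ι f)
      rw [h]
      exact hx⟩
    haveI : IsIso (pullback.snd ι f) := isIso_of_isClosedImmersion_of_surjective _
    refine ⟨⟨inv (pullback.snd ι f) ≫ pullback.fst ι f, ?_⟩, ?_⟩
    · rw [Category.assoc, pullback.condition_assoc, IsIso.inv_hom_id_assoc]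
      exact Groth.L18.PS.tuplePt_toSpec (B := CommRingCat.of k') _ _ _ _
    · rw [Category.assoc, pullback.condition, IsIso.inv_hom_id_assoc]
  choose pt hpt using hlift
  have hsurj : ∀ g : T, ∃ v : V, pt v = g := by
    intro g
    have hp : (g.1 ≫ ι) x₀ ∈ ⨆ i : Fin (n + 1), Proj.basicOpen (CohB1.polyGrading n k) (X i) :=
      (Groth.L18.PS.iSup_chart (n := n) (R := k)).symm ▸ trivial
    obtain ⟨i, hi⟩ := TopologicalSpace.Opens.mem_iSup.1 hp
    obtain ⟨τ, b, hb, hgb, hb1⟩ := Groth.L18.PS.exists_tuplePt (B := CommRingCat.of k') (g.1 ≫ ι) i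
      (fun x => by rwa [Subsingleton.elim x x₀])
    have hτ : τ = algebraMap k k' := by
      have h := g.2
      rw [← Category.assoc, hgb, Groth.L18.PS.tuplePt_toSpec] at h
      exact congrArg CommRingCat.Hom.hom (Spec.map_injective h)
    subst hτ
    have hb0 : (show Fin (n + 1) → k' from b) ≠ 0 := fun h => by
      have h0 : b i = 0 := congrFun h i
      exact one_ne_zero (α := k') (hb1.symm.trans h0)
    have hQb : ∀ P : MvPolynomial (Fin (n + 1)) k, aeval (coord ι) P = 0 → aeval (show Fin (n + 1) → k' from b) P = 0 := by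
      refine (tuplePt_mem_range_iff ι _ i hb x₀).1 ?_
      exact ⟨g.1 x₀, by rw [← Scheme.Hom.comp_apply, hgb]⟩
    refine ⟨⟨b, hb0, hQb⟩, Subtype.ext ((cancel_mono ι).1 ((hpt _).trans ?_))⟩
    rw [hgb]
    exact Groth.L18.PS.tuplePt_chart_eq (B := CommRingCat.of k') _ _ _ _ _ hb
  have hfib : ∀ (v : V) (c : k'ˣ), (c : k') • v.1 ≠ 0 ∧
      ∀ P : MvPolynomial (Fin (n + 1)) k, aeval (coord ι) P = 0 → aeval ((c : k') • v.1) P = 0 := fun v c => by
    refine ⟨smul_ne_zero c.ne_zero v.2.1, fun P hP => ?_⟩
    rw [← sum_homogeneousComponent P, map_sum]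
    refine Finset.sum_eq_zero fun D _ => ?_
    rw [show (c : k') • v.1 = fun j => (c : k') * v.1 j from rfl,
      aeval_mul_of_homogeneous (homogeneousComponent_isHomogeneous D P) (c : k') v.1,
      v.2.2 _ ((aeval_coord_eq_zero_iff ι _).2 (component_mem_genIdeal ι ((aeval_coord_eq_zero_iff ι P).1 hP) D)),
      mul_zero]
  choose sec hsec using hsurj
  have hbij : Function.Bijective fun p : T × k'ˣ => (⟨_, hfib (sec p.1) p.2⟩ : V) := by
    constructor
    · rintro ⟨g, c⟩ ⟨g', c'⟩ h
      have h' : (c : k') • (sec g).1 = (c' : k') • (sec g').1 := congrArg Subtype.val h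
      have hw : (sec g').1 = ((c' : k')⁻¹ * (c : k')) • (sec g).1 := by
        rw [mul_smul, h', inv_smul_smul₀ c'.ne_zero]
      have e : g = g' := by
        rw [← hsec g, ← hsec g']
        refine Subtype.ext ((cancel_mono ι).1 ?_)
        rw [hpt, hpt]
        have hu : IsUnit (((c' : k')⁻¹ * (c : k')) * (sec g).1 (idx (sec g'))) := by
          have := hidx (sec g')
          rwa [hw] at this
        exact ((Groth.L18.PS.tuplePt_smul (B := CommRingCat.of k') (algebraMap k k') (sec g).1
          ((c' : k')⁻¹ * (c : k')) (idx (sec g')) (idx (sec g)) hu (hidx (sec g))).symm.trans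
            (Groth.L18.PS.tuplePt_congr (B := CommRingCat.of k') _ (fun l => (congrFun hw l).symm) _ _ hu
              (hidx (sec g'))))
      subst e
      exact Prod.ext rfl (Units.ext (smul_left_injective k' (sec g).2.1 h'))
    · intro w
      obtain ⟨c, hc⟩ := Groth.L18.PS.exists_smul_of_tuplePt_eq (B := CommRingCat.of k') (algebraMap k k')
        (sec (pt w)).1 (idx (sec (pt w))) (idx w) (hidx (sec (pt w))) (hidx w) (by rw [← hpt, ← hpt, hsec])
      exact ⟨(pt w, c), Subtype.ext (funext fun l => (hc l).symm)⟩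
  have hV : Nat.card V = SgaExt.pointCount (ι ≫ CohB1.ProjSpace.toSpec n k) k' * (Nat.card k' - 1) := by
    rw [← Nat.card_congr (Equiv.ofBijective _ hbij), Nat.card_prod, Nat.card_units]
    rfl
  rw [← hV]
  have h0 : ∀ P : MvPolynomial (Fin (n + 1)) k, aeval (coord ι) P = 0 → aeval (0 : Fin (n + 1) → k') P = 0 := fun P hP => by
    rw [aeval_zero, show constantCoeff P = 0 from ?_, map_zero]
    have hc := component_mem_genIdeal ι ((aeval_coord_eq_zero_iff ι P).1 hP) 0
    rw [homogeneousComponent_zero] at hc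
    by_contra hne
    exact (isPrime_genIdeal ι).ne_top (Ideal.eq_top_of_isUnit_mem _ hc ((Ne.isUnit hne).map C))
  let e : Option V ≃ ConePts k (coord ι) k' :=
    { toFun := fun o => o.elim ⟨0, h0⟩ fun v => ⟨v.1, v.2.2⟩
      invFun := fun v => if h : v.1 = 0 then none else some ⟨v.1, h, v.2⟩
      left_inv := fun o => by
        cases o with
        | none => simp
        | some v => simp [v.2.1]
      right_inv := fun v => by
        by_cases h : v.1 = 0
        · simp [h]; exact Subtype.ext h.symm
        · simp [h] }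
  rw [← Nat.card_congr e, Finite.card_option]

end Groth.L03.LWU.Bridge
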