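import Groth.Agent.L03.LWU.Bridge.Dim
import Groth.Agent.L02.Quot.Mono
import Groth.Agent.L16.ProjSpace.TwistQCoh
import Groth.Agent.L16.ProjSpace.SerreVanishing
import Groth.Agent.L16.Exist.AdicSections
import Groth.Agent.L22.Reg.ClosedQuot
import Groth.Agent.L03.Euler.Push
import Groth.Agent.L16.CohSupport
import Groth.Agent.L16.CohKernel
import Groth.Agent.L03.ShStab.FinExtPoly
import Groth.Agent.L16.HomSh.FullyFaithful
import Groth.Agent.L18.CounitGen
import Groth.Agent.L18.GlobGen

/-!
# Forms of large degree restrict onto the sections of the twists of a closed subvariety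
-/

set_option autoImplicit false
set_option linter.style.haveILetI false
set_option linter.unusedSectionVars false
set_option backward.isDefEq.respectTransparency false
set_option backward.isDefEq.respectTransparency.types false

universe u

open CategoryTheory CategoryTheory.Limits AlgebraicGeometry TopologicalSpace Opposite MvPolynomial
open Groth.L18.Frame (rs ro rs_rs rs_self rs_smul pull pull_rs pull_smul IsFrame)

noncomputable section

namespace Groth.L03.LWU.Bridge

variable {k : Type u} [Field k] {n : ℕ} {Y : Scheme.{u}} (ι : Y ⟶ CohB1.ProjSpace n k)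
  [IsClosedImmersion ι] [IsIntegral Y]

/-- A homogeneous ratio on `D₊(X j)` vanishes on `Y` iff its numerator lies in the homogeneous prime. -/
theorem app_rat_eq_zero_iff {D : ℕ} (p : CohB1.polyGrading n k D) (j : Fin (n + 1))
    (hj : (X j : MvPolynomial (Fin (n + 1)) k) ∉ genIdeal ι) :
    ι.app _ (Groth.L02.Quot.Mono.rat n k p (⟨X j, isHomogeneous_X k j⟩ : CohB1.polyGrading n k 1)) = 0 ↔
      p.1 ∈ genIdeal ι := by
  let A := CohB1.polyGrading n k
  have hf : (X j : MvPolynomial (Fin (n + 1)) k) ∈ A 1 := isHomogeneous_X k j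
  have hp : p.1 ∈ A (D • 1) := by rw [smul_eq_mul, mul_one]; exact p.2
  let g := HomogeneousLocalization.Away.mk A hf D p.1 hp
  have e : Proj.awayι A (X j) hf one_pos ''ᵁ PrimeSpectrum.basicOpen g =
      (Proj A).basicOpen (Proj.awayToSection A (X j) g) := by
    rw [← basicOpen_eq_of_affine (R := .of (HomogeneousLocalization.Away A (X j))) g, Scheme.image_basicOpen]
    have h2 := Groth.L16.ProjTwist.appIso_inv_scalar one_pos hf ⊤ g
    rw [Subsingleton.elim ((⊤ : (Spec (.of (HomogeneousLocalization.Away A (X j)))).Opens).leTop) (𝟙 _)] at h2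
    simp only [op_id, CategoryTheory.Functor.map_id, CommRingCat.id_apply] at h2
    rw [h2, Scheme.basicOpen_res]
    refine inf_eq_right.2 (((Proj A).basicOpen_le _).trans_eq ?_)
    rw [Scheme.Hom.image_top_eq_opensRange, Proj.opensRange_awayι]
  have hmem : ι (genericPoint Y) ∈ (Proj A).basicOpen (Proj.awayToSection A (X j) g) ↔ p.1 ∉ genIdeal ι := by
    rw [← e]
    refine (Groth.L16.ProjTwist.mem_image_basicOpen one_pos hf D p.1 hp (ι (genericPoint Y))).trans ?_
    refine ⟨fun h hpI => h ((ι (genericPoint Y)).asHomogeneousIdeal.toIdeal.mul_mem_left _ hpI),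
      fun h hm => ?_⟩
    exact ((ι (genericPoint Y)).isPrime.mem_or_mem hm).elim hj h
  rw [show Groth.L02.Quot.Mono.rat n k p (⟨X j, isHomogeneous_X k j⟩ : CohB1.polyGrading n k 1) =
    Proj.awayToSection A (X j) g from rfl, ← AlgebraicGeometry.basicOpen_eq_bot_iff]
  erw [← Scheme.preimage_basicOpen]
  constructor
  · intro h
    by_contra hpI
    change ι ⁻¹ᵁ (Proj A).basicOpen (Proj.awayToSection A (X j) g) = ⊥ at h
    have h1 : genericPoint Y ∈ ι ⁻¹ᵁ (Proj A).basicOpen (Proj.awayToSection A (X j) g) := hmem.2 hpI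
    exact (SetLike.ext_iff.1 h (genericPoint Y)).1 h1
  · intro hpI
    by_contra h
    have hne : ((ι ⁻¹ᵁ (Proj A).basicOpen (Proj.awayToSection A (X j) g) : Y.Opens) : Set Y).Nonempty :=
      Set.nonempty_iff_ne_empty.2 fun h0 => h (Opens.ext h0)
    exact hmem.1 (show genericPoint Y ∈ ι ⁻¹ᵁ (Proj A).basicOpen (Proj.awayToSection A (X j) g) from
      ((genericPoint_spec Y).mem_open_set_iff (Opens.isOpen _)).2 (by simpa [Set.univ_inter] using hne)) hpI

/-- A form restricts to zero iff it lies in the homogeneous prime. -/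
theorem pull_secOf_eq_zero_iff {D : ℕ} (p : CohB1.polyGrading n k D) :
    pull ι (Twist.twistProjSpace n k (D : ℤ)) ⊤ (Groth.L02.Quot.Mono.secOf k p) = 0 ↔ p.1 ∈ genIdeal ι := by
  let O := Twist.twistProjSpace n k (D : ℤ)
  let f : Fin (n + 1) → CohB1.polyGrading n k 1 := fun j => ⟨X j, isHomogeneous_X k j⟩
  let U : Fin (n + 1) → (CohB1.ProjSpace n k).Opens := fun j => Proj.basicOpen (CohB1.polyGrading n k) (f j).1
  have hrs : ∀ j, rs ((Scheme.Modules.pullback ι).obj O) (ι.preimage_mono (le_top : U j ≤ ⊤))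
      (pull ι O ⊤ (Groth.L02.Quot.Mono.secOf k p)) =
      ι.app (U j) (Groth.L02.Quot.Mono.rat n k p (f j)) •
        pull ι O (U j) (Groth.L16.ProjTwist.posFrame (CohB1.polyGrading n k) D (f j)) := fun j => by
    rw [pull_rs (f := ι) (h := (le_top : U j ≤ ⊤)), Groth.L02.Quot.Mono.rs_secOf, pull_smul]
  have hzero : ∀ j, ι (genericPoint Y) ∉ U j → (ι ⁻¹ᵁ U j : Y.Opens) = ⊥ := fun j hj => by
    by_contra h
    have hne : ((ι ⁻¹ᵁ U j : Y.Opens) : Set Y).Nonempty :=
      Set.nonempty_iff_ne_empty.2 fun h0 => h (Opens.ext h0)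
    exact hj (((genericPoint_spec Y).mem_open_set_iff (ι ⁻¹ᵁ U j).isOpen).2 (by rwa [Set.univ_inter]))
  constructor
  · intro h
    obtain ⟨j, hj⟩ := Groth.L16.ProjSpace.exists_mem_basicOpen_X n k (ι (genericPoint Y))
    have h1 := hrs j
    rw [h, show rs ((Scheme.Modules.pullback ι).obj O) (ι.preimage_mono (le_top : U j ≤ ⊤)) 0 = 0 from map_zero _] at h1
    have hfr := (Groth.L16.ProjTwist.isFrame_posFrame (CohB1.polyGrading n k) D (f j)).pullback ι O
    have h2 : ι.app (U j) (Groth.L02.Quot.Mono.rat n k p (f j)) = 0 := by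
      have hinj := (hfr (ι ⁻¹ᵁ U j) le_rfl).1
      apply hinj
      simp only [rs_self, zero_smul]
      exact h1.symm
    exact (app_rat_eq_zero_iff ι p j ((Proj.mem_basicOpen _ _ _).1 hj)).1 h2
  · intro hp
    let OM : TopCat.Sheaf Ab.{u} Y.toTopCat :=
      ⟨((Scheme.Modules.pullback ι).obj O).presheaf, ((Scheme.Modules.pullback ι).obj O).isSheaf⟩
    refine OM.eq_of_locally_eq' (fun j => ι ⁻¹ᵁ U j) (ι ⁻¹ᵁ ⊤) (fun j => homOfLE le_top) ?_ _ _ fun j => ?_
    · intro y _
      obtain ⟨j, hj⟩ := Groth.L16.ProjSpace.exists_mem_basicOpen_X n k (ι y)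
      exact Opens.mem_iSup.2 ⟨j, hj⟩
    · refine (hrs j).trans (Eq.trans ?_ (map_zero _).symm)
      by_cases hj : ι (genericPoint Y) ∈ U j
      · rw [(app_rat_eq_zero_iff ι p j ((Proj.mem_basicOpen _ _ _).1 hj)).2 hp, zero_smul]
      · haveI : Subsingleton Γ(Y, ι ⁻¹ᵁ U j) := by
          rw [hzero j hj]
          infer_instance
        rw [Subsingleton.elim (ι.app (U j) (Groth.L02.Quot.Mono.rat n k p (f j))) 0, zero_smul]

/-- Global sections of large twists restrict surjectively. -/
theorem exists_surjective_restrict :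
    ∃ d₀ : ℕ, ∀ D : ℕ, d₀ ≤ D → Function.Surjective
      (((Scheme.Modules.pullbackPushforwardAdjunction ι).unit.app (Twist.twistProjSpace n k (D : ℤ))).app ⊤) := by
  haveI : IsLocallyNoetherian (CohB1.ProjSpace n k) :=
    LocallyOfFiniteType.isLocallyNoetherian (CohB1.ProjSpace.toSpec n k)
  haveI : IsLocallyNoetherian Y := LocallyOfFiniteType.isLocallyNoetherian ι
  let η₀ : Coh.structureModule (CohB1.ProjSpace n k) ⟶ (Coh.push ι).obj
      ((Scheme.Modules.pullback ι).obj (Coh.structureModule (CohB1.ProjSpace n k))) :=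
    (Scheme.Modules.pullbackPushforwardAdjunction ι).unit.app (Coh.structureModule (CohB1.ProjSpace n k))
  haveI : Epi η₀ := Groth.L22.Reg.epi_unit ι _
  have hpull : Coh.IsCoh ((Scheme.Modules.pullback ι).obj (Coh.structureModule (CohB1.ProjSpace n k))) :=
    Groth.L16.CohSupport.isCoh_of_iso (Groth.L29.LocFree.pullbackUnitIso ι).symm Groth.L16.CohClosedPush.isCoh_structure
  have hpush := Groth.L16.Exist.isCoh_pushforward ι hpull
  haveI : Coh.IsQCoh ((Coh.push ι).obj
      ((Scheme.Modules.pullback ι).obj (Coh.structureModule (CohB1.ProjSpace n k)))) := hpush.1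
  have hK : Coh.IsCoh (Limits.kernel η₀) :=
    (Groth.L16.CohKernel.isCoh_kernel_cokernel Groth.L16.CohClosedPush.isCoh_structure hpush η₀).1
  obtain ⟨d₀, hd₀⟩ := Groth.L16.ProjSpace.exists_vanishing n k (Limits.kernel η₀) hK
  refine ⟨d₀, fun D hD => ?_⟩
  have hO : FlatMod.IsFinLocFree (Twist.twistProjSpace n k (D : ℤ)) :=
    Groth.L16.Existence.isFinLocFree_of_isInvertible (Groth.L16.ProjTwist.isInvertible_twistProjSpace n k D)
  obtain ⟨z, hT⟩ := Groth.L16.Exist.Adic.shortExact_tensor hO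
    (show (ShortComplex.mk (Limits.kernel.ι η₀) η₀ (Limits.kernel.condition _)).ShortExact from
      { exact := ShortComplex.exact_kernel _, epi_g := inferInstance })
  exact Groth.L16.Exist.Adic.surjective_unit_top_of_iso ι (Groth.L00.Tensor.tensorUnitRight _)
    (Groth.L16.Exist.Adic.surjective_unit_tensor ι hO _
      (Groth.L16.Exist.Adic.surjective_app_top hT (hd₀ D hD 1 one_pos)))

end Groth.L03.LWU.Bridge
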