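import Groth.Agent.L03.LWU.Bridge.Constants
import Groth.Agent.L19.NormalSections
import Groth.Agent.L25.Extend.Codim

/-!
# Local constants on smooth varieties
-/

set_option autoImplicit false
set_option linter.style.haveILetI false
set_option linter.unusedSectionVars false
set_option backward.isDefEq.respectTransparency false
set_option backward.isDefEq.respectTransparency.types false

universe u

open CategoryTheory CategoryTheory.Limits AlgebraicGeometry MvPolynomial
open Groth.L03.LangWeil (sectAlg sectAlg_spec)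

noncomputable section

namespace Groth.L03.LWU.Bridge

variable {k : Type u} [Field k] {n : ℕ} {Y : Scheme.{u}} (ι : Y ⟶ CohB1.ProjSpace n k)
  [IsClosedImmersion ι] [IsIntegral Y]

theorem rat_surjective (j : Fin (n + 1)) (c : Γ(CohB1.ProjSpace n k, stdOpen n k j)) :
    ∃ (D : ℕ) (p : CohB1.polyGrading n k D),
      Groth.L02.Quot.Mono.rat n k p (⟨X j, isHomogeneous_X k j⟩ : CohB1.polyGrading n k 1) = c := by
  let A := CohB1.polyGrading n k
  have hf : (X j : MvPolynomial (Fin (n + 1)) k) ∈ A 1 := isHomogeneous_X k j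
  obtain ⟨z, rfl⟩ := (ConcreteCategory.bijective_of_isIso (Proj.basicOpenIsoAway A (X j) hf one_pos).hom).2 c
  obtain ⟨D, num, hnum, rfl⟩ := HomogeneousLocalization.Away.mk_surjective A hf z
  exact ⟨D, ⟨num, by rwa [smul_eq_mul, mul_one] at hnum⟩, rfl⟩

/-- On a smooth variety every constant is a ratio regular at every point of the cone off the vertex. -/
theorem localConst_of_smooth [Finite k] {r : ℕ} (hr : topologicalKrullDim Y = r)
    [Smooth (ι ≫ CohB1.ProjSpace.toSpec n k)] {k' : Type u} [Field k'] [Algebra k k'] (v : Fin (n + 1) → k')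
    (hv : ∀ P : MvPolynomial (Fin (n + 1)) k, aeval (coord ι) P = 0 → aeval v P = 0) (hv0 : v ≠ 0) :
    LocalConst k (coord ι) v := by
  classical
  intro α hα
  obtain ⟨j, hvj⟩ := Function.ne_iff.1 hv0
  have hj : (X j : MvPolynomial (Fin (n + 1)) k) ∉ genIdeal ι := fun h =>
    hvj (by simpa using hv _ ((aeval_coord_eq_zero_iff ι _).2 h))
  set f := ι ≫ CohB1.ProjSpace.toSpec n k with hf
  have hD := isAffineOpen_stdOpen (k := k) j
  have hU := hD.preimage ι
  letI := sectAlg f hU
  obtain ⟨hξ, ψ, hψker, hψ⟩ := exists_generic_lift ι j hj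
  haveI : Nonempty (ι ⁻¹ᵁ stdOpen n k j : Y.Opens) := ⟨⟨_, hξ⟩⟩
  have hN : Pi1.IsNormalScheme Y := by
    refine Groth.L25.Extend.isNormalScheme_of_smooth f fun x => ?_
    have hF : IsField ((Spec (CommRingCat.of k)).presheaf.stalk x) := by
      haveI : Subsingleton (Spec (CommRingCat.of k)) := inferInstanceAs (Subsingleton (PrimeSpectrum k))
      rw [Subsingleton.elim x (genericPoint (Spec (CommRingCat.of k)))]
      exact Field.toIsField (Spec (CommRingCat.of k)).functionField
    letI := hF.toField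
    exact ⟨inferInstance, inferInstance⟩
  haveI : IsIntegrallyClosed Γ(Y, ι ⁻¹ᵁ stdOpen n k j) :=
    Groth.L19.NormalSec.isIntegrallyClosed_sections (fun y => (hN y).2) _
  have hinj : Function.Injective ψ := by
    rw [RingHom.injective_iff_ker_eq_bot, hψker, hU.primeIdealOf_genericPoint, genericPoint_eq_bot_of_affine]
    rfl
  let R := Γ(Y, ι ⁻¹ᵁ stdOpen n k j)
  let K := FractionRing R
  let φ : K →ₐ[k] ConeField ι := IsFractionRing.liftAlgHom hinj
  obtain ⟨D, a, b, ha, hb, hb0, hab⟩ := (isCone_coord ι hr).exists_ratio hα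
  obtain ⟨A, hA, rfl⟩ := mem_piece.mp ha
  obtain ⟨B, hB, rfl⟩ := mem_piece.mp hb
  let sec : CohB1.polyGrading n k D → R := fun p =>
    ι.app _ (Groth.L02.Quot.Mono.rat n k p (⟨X j, isHomogeneous_X k j⟩ : CohB1.polyGrading n k 1))
  have hxj : coord ι j ^ D ≠ 0 :=
    pow_ne_zero _ fun h => hj ((aeval_coord_eq_zero_iff ι _).1 (by rw [aeval_X]; exact h))
  have hB0 : ψ (sec ⟨B, hB⟩) ≠ 0 := fun h => hb0 (by
    show aeval (coord ι) (⟨B, hB⟩ : CohB1.polyGrading n k D).1 = 0
    rw [← hψ D ⟨B, hB⟩, show ψ _ = 0 from h, zero_mul])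
  have hψab : α * ψ (sec ⟨B, hB⟩) = ψ (sec ⟨A, hA⟩) := by
    refine mul_right_cancel₀ hxj ?_
    rw [mul_assoc, hψ, hψ]
    exact hab
  let z : K := algebraMap R K (sec ⟨A, hA⟩) / algebraMap R K (sec ⟨B, hB⟩)
  have hz : φ z = α := by
    have hφ : ∀ r : R, φ (algebraMap R K r) = ψ r := fun r => IsFractionRing.lift_algebraMap hinj r
    rw [map_div₀, hφ, hφ]
    exact (div_eq_iff hB0).2 hψab.symm
  have hzk : IsIntegral k z := (isIntegral_algHom_iff φ φ.toRingHom.injective).1 (hz.symm ▸ hα.isIntegral)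
  obtain ⟨s, hs⟩ := IsIntegrallyClosed.isIntegral_iff.1 (hzk.tower_top (A := R))
  haveI : IsAffineHom ι := inferInstance
  obtain ⟨c, hc⟩ := ι.app_surjective _ hD s
  obtain ⟨D', p, rfl⟩ := rat_surjective j c
  refine ⟨D', p.1, X j ^ D', p.2, ?_, ?_, ?_⟩
  · simpa using (isHomogeneous_X k j).pow D'
  · have hψs : ψ s = α := by
      rw [← hz, ← hs, IsFractionRing.liftAlgHom_apply, IsFractionRing.lift_algebraMap]
      rfl
    rw [map_pow, aeval_X, ← hψs, ← hc]
    exact hψ D' p
  · rw [map_pow, aeval_X]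
    exact pow_ne_zero _ hvj

end Groth.L03.LWU.Bridge
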